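import Groth.Agent.Formal2AlgzLib.Finite

/-!
# Finiteness of sections and first cohomology of a bundle on the zero locus of an ideal in the punctured spectrum
-/

set_option autoImplicit false
set_option linter.unusedSectionVars false
set_option maxRecDepth 8000

noncomputable section

universe u

open CategoryTheory CategoryTheory.Limits AlgebraicGeometry TopologicalSpace Opposite
open ProjFormLib (ger res ger_res ger_smul)
open CohCmpLib (stk)
open KoszLib (Res)
open KoszLcLib (scal)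
open Formal2VBLib (stalkHom)
open LocCohLib (Hf exact_Hf Hδ exact_Hδ)

open Formal2AlgzLib

namespace NFlatAlgzLib

variable {A : Type u} [CommRing A] [IsNoetherianRing A] {𝔞 : Ideal A} {J : Ideal A} {G : (PU 𝔞).Modules}

theorem smul_eq_zero_of_mem (hkill : Formal.KilledBy J G) {a : A} (ha : a ∈ J) (s : S G) : a • s = 0 := by
  have h := congrArg (fun φ => Scheme.Modules.Hom.app φ ⊤) (hkill a ha)
  refine Eq.trans (Formal2VBLib.app_smulModΓ_top G (scal 𝔞 a) s).symm ?_
  exact congr($h s)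

theorem exists_global_presentation (hcoh : Coh.IsCoh G)
    (hfree : Formal2.IsFinLocFreeMod J 1 G) (M₀ : Submodule A (S G))
    (htor : LocCoh.IsPowerTorsion 𝔞 (S G ⧸ M₀)) (y : PU 𝔞) :
    ∃ g ∈ 𝔞, g ∉ (pr y).asIdeal ∧ ∃ (r : ℕ) (m : Fin r → M₀), ∀ z : PU 𝔞, g ∉ (pr z).asIdeal →
      Function.Surjective (Fintype.linearCombination ((PU 𝔞).presheaf.stalk z) fun l => gS G z (m l : S G)) ∧
      ∀ c : Fin r → (PU 𝔞).presheaf.stalk z,
        Fintype.linearCombination ((PU 𝔞).presheaf.stalk z) (fun l => gS G z (m l : S G)) c = 0 ↔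
          ∀ l, c l ∈ J.map (stalkHom A z) := by
  haveI : Coh.IsQCoh G := hcoh.1
  obtain ⟨V, r, e, hy, he⟩ := exists_presentation hfree y
  obtain ⟨g, hg, hgy, hgV⟩ := exists_basic V hy
  choose n s hs using fun l => exists_pow_smul_eq_res G g (res G hgV (e l))
  choose k hk using fun l => htor (Submodule.Quotient.mk (s l))
  let m : Fin r → M₀ := fun l => ⟨g ^ k l • s l, by
    have := hk l _ (Ideal.pow_mem_pow hg (k l))
    rwa [← Submodule.Quotient.mk_smul, Submodule.Quotient.mk_eq_zero] at this⟩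
  refine ⟨g, hg, hgy, r, m, fun z hz => ?_⟩
  have hzV : z ∈ V := hgV (mem_basic.2 hz)
  obtain ⟨hsurj, hker⟩ := he z hzV
  let v : Fin r → (PU 𝔞).presheaf.stalk z := fun l => stalkHom A z (g ^ (k l + n l))
  have hv : ∀ l, IsUnit (v l) := fun l => isUnit_stalkHom fun h => hz ((pr z).isPrime.mem_of_pow_mem _ h)
  have hm : ∀ c : Fin r → (PU 𝔞).presheaf.stalk z,
      Fintype.linearCombination ((PU 𝔞).presheaf.stalk z) (fun l => gS G z (m l : S G)) c =
        Fintype.linearCombination ((PU 𝔞).presheaf.stalk z) (fun l => ger G z hzV (e l)) (fun l => c l * v l) := fun c => by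
    rw [Fintype.linearCombination_apply, Fintype.linearCombination_apply]
    refine Finset.sum_congr rfl fun l _ => ?_
    rw [show gS G z (m l : S G) = stalkHom A z (g ^ k l) • gS G z (s l) from gS_smul G z _ _,
      hs l z (mem_basic.2 hz), ger_res, smul_smul, smul_smul, mul_assoc, ← map_mul, ← pow_add]
  refine ⟨fun a => ?_, fun c => ?_⟩
  · obtain ⟨c, rfl⟩ := hsurj a
    choose w hw using fun l => isUnit_iff_exists_inv.1 (hv l)
    refine ⟨fun l => c l * w l, ?_⟩
    rw [hm]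
    refine congrArg _ (funext fun l => ?_)
    rw [mul_assoc, mul_comm (w l), hw, mul_one]
  · rw [hm, hker]
    refine forall_congr' fun l => ?_
    rw [Ideal.mul_unit_mem_iff_mem _ (hv l), pow_one]

theorem exists_pow_smul_mem_span (hcoh : Coh.IsCoh G) {g : A} {r : ℕ} (m : Fin r → S G)
    (hm : ∀ z : PU 𝔞, g ∉ (pr z).asIdeal →
      Function.Surjective (Fintype.linearCombination ((PU 𝔞).presheaf.stalk z) fun l => gS G z (m l)))
    (hg : g ∈ 𝔞) (x : S G) : ∃ k : ℕ, g ^ k • x ∈ Submodule.span A (Set.range m) := by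
  classical
  haveI : Coh.IsQCoh G := hcoh.1
  let K : Ideal A := (Submodule.span A (Set.range m)).colon {x}
  suffices h : g ∈ K.radical by
    obtain ⟨k, hk⟩ := h
    exact ⟨k, Submodule.mem_colon_singleton.1 hk⟩
  rw [Ideal.radical_eq_sInf, Submodule.mem_sInf]
  rintro P ⟨hP, hPp⟩
  by_contra hgP
  let z : PU 𝔞 := ⟨⟨P, hPp⟩, fun h => hgP (h hg)⟩
  obtain ⟨c, hc⟩ := hm z hgP (gS G z x)
  choose a s hs hcs using fun l => exists_mul_stalkHom z (c l)
  let σ := ∏ l, s l
  let w : S G := σ • x - ∑ l, (a l * ∏ i ∈ Finset.univ.erase l, s i) • m l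
  have hw : gS G z w = 0 := by
    rw [map_sub, map_sum, gS_smul, ← hc, Fintype.linearCombination_apply, Finset.smul_sum, ← Finset.sum_sub_distrib]
    refine Finset.sum_eq_zero fun l _ => ?_
    rw [gS_smul, smul_smul, sub_eq_zero]
    refine congrArg (fun t => t • gS G z (m l)) ?_
    rw [map_mul, ← hcs l, show stalkHom A z σ = stalkHom A z (s l) * stalkHom A z (∏ i ∈ Finset.univ.erase l, s i) by
      rw [← map_mul, Finset.mul_prod_erase _ _ (Finset.mem_univ l)]]
    ring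
  obtain ⟨t, -, htP, ht⟩ := exists_smul_eq_zero_of_gS G z w hw
  have hmem : t * σ ∈ K := by
    refine Submodule.mem_colon_singleton.2 ?_
    rw [mul_smul, show σ • x = w + ∑ l, (a l * ∏ i ∈ Finset.univ.erase l, s i) • m l by rw [sub_add_cancel],
      smul_add, ht, zero_add]
    exact Submodule.smul_mem _ _ (Submodule.sum_mem _ fun l _ => Submodule.smul_mem _ _ (Submodule.subset_span ⟨l, rfl⟩))
  rcases hPp.mem_or_mem (hP hmem) with h | h
  · exact htP h
  · obtain ⟨l, -, hl⟩ := hPp.prod_mem_iff.1 h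
    exact hs l hl

theorem exists_pow_mul_mem {g : A} (hg : g ∈ 𝔞) (a : A)
    (h : ∀ z : PU 𝔞, g ∉ (pr z).asIdeal → stalkHom A z a ∈ J.map (stalkHom A z)) :
    ∃ k : ℕ, g ^ k * a ∈ J := by
  let K : Ideal A := J.colon {a}
  suffices h : g ∈ K.radical by
    obtain ⟨k, hk⟩ := h
    exact ⟨k, Submodule.mem_colon_singleton.1 hk⟩
  rw [Ideal.radical_eq_sInf, Submodule.mem_sInf]
  rintro P ⟨hP, hPp⟩
  by_contra hgP
  let z : PU 𝔞 := ⟨⟨P, hPp⟩, fun h => hgP (h hg)⟩
  let := (stalkHom A z).toAlgebra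
  haveI := isLocalization_stalkHom z
  obtain ⟨t, ht, htm⟩ := (IsLocalization.algebraMap_mem_map_algebraMap_iff (pr z).asIdeal.primeCompl
    ((PU 𝔞).presheaf.stalk z) _ _).1 (h z hgP)
  exact ht (hP (Submodule.mem_colon_singleton.2 htm))

/-- The finite module of sections with its local factorisations. -/
theorem exists_model (hcoh : Coh.IsCoh G) (hkill : Formal.KilledBy J G)
    (hfree : Formal2.IsFinLocFreeMod J 1 G)
    (h₁ : Module.Finite A (LocCoh.H 𝔞 1 (A ⧸ J)))
    (h₂ : Module.Finite A (LocCoh.H 𝔞 2 (A ⧸ J))) :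
    ∃ M₀ : Submodule A (S G), Module.Finite A M₀ ∧ LocCoh.IsPowerTorsion 𝔞 (S G ⧸ M₀) ∧
      ∀ i ≤ 2, Module.Finite A (LocCoh.H 𝔞 i M₀) := by
  obtain ⟨fs, hfs⟩ := LocCohLib.exists_list_span 𝔞
  obtain ⟨M₀, hfg, htor⟩ := KoszLcLib.exists_finite_sections 𝔞 fs hfs G hcoh
  haveI : Module.Finite A M₀ := Module.Finite.iff_fg.2 hfg
  refine ⟨M₀, inferInstance, htor, finite_H_of_factor (N := A ⧸ J) 2 ?_ M₀ fun p hp => ?_⟩
  · intro i hi
    interval_cases i
    · exact LocCohLib.finite_H0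
    · exact h₁
    · exact h₂
  obtain ⟨g, hg, hgy, r, m, hm⟩ := exists_global_presentation hcoh hfree M₀ htor ⟨p, hp⟩
  let N := A ⧸ J
  let ψl : Fin r → (N →ₗ[A] M₀) := fun l =>
    Submodule.liftQ _ (LinearMap.toSpanSingleton A M₀ (m l)) (fun q hq => by
      rw [LinearMap.mem_ker, LinearMap.toSpanSingleton_apply]
      exact Subtype.ext (smul_eq_zero_of_mem hkill hq _))
  let ψ : (Fin r → N) →ₗ[A] M₀ := ∑ l, ψl l ∘ₗ LinearMap.proj l
  have hψ : ∀ a : Fin r → A, (ψ fun l => Ideal.Quotient.mk _ (a l) : S G) = ∑ l, a l • (m l : S G) := fun a => by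
    rw [LinearMap.sum_apply, Submodule.coe_sum]
    exact Finset.sum_congr rfl fun l _ => rfl
  have hA : ∀ x : M₀, ∃ k : ℕ, g ^ k • x ∈ LinearMap.range ψ := fun x => by
    obtain ⟨k, hk⟩ := exists_pow_smul_mem_span hcoh (fun l => (m l : S G)) (fun z hz => (hm z hz).1) hg (x : S G)
    obtain ⟨a, ha⟩ := (Submodule.mem_span_range_iff_exists_fun A).1 hk
    exact ⟨k, fun l => Ideal.Quotient.mk _ (a l), Subtype.ext ((hψ a).trans ha)⟩
  have hB : ∀ v, ψ v = 0 → ∃ k : ℕ, g ^ k • v = 0 := fun v hv => by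
    choose a ha using fun l => Ideal.Quotient.mk_surjective (v l)
    obtain rfl : v = fun l => Ideal.Quotient.mk _ (a l) := funext fun l => (ha l).symm
    choose k hk using fun l => exists_pow_mul_mem (J := J) hg (a l) fun z hz =>
      ((hm z hz).2 fun l => stalkHom A z (a l)).1 (by
        rw [Fintype.linearCombination_apply]
        refine (Finset.sum_congr rfl fun l _ => (gS_smul G z (a l) (m l : S G)).symm).trans ?_
        rw [← map_sum, ← hψ, hv]
        exact map_zero _) l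
    refine ⟨Finset.univ.sum k, funext fun l => ?_⟩
    change g ^ (Finset.univ.sum k) • Ideal.Quotient.mk _ (a l) = 0
    rw [← Nat.sub_add_cancel (Finset.single_le_sum (fun _ _ => Nat.zero_le _) (Finset.mem_univ l)), pow_add,
      mul_smul]
    refine (congrArg _ ?_).trans (smul_zero _)
    exact Ideal.Quotient.eq_zero_iff_mem.2 (hk l)
  obtain ⟨k, χ, hχ⟩ := exists_factor_of_presentation ψ g hA hB
  exact ⟨g, hg, hgy, r, k, ψ, χ, hχ⟩

theorem finite_sections (hcoh : Coh.IsCoh G) (hkill : Formal.KilledBy J G)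
    (hfree : Formal2.IsFinLocFreeMod J 1 G)
    (h₁ : Module.Finite A (LocCoh.H 𝔞 1 (A ⧸ J)))
    (h₂ : Module.Finite A (LocCoh.H 𝔞 2 (A ⧸ J))) : Module.Finite A (S G) := by
  haveI : Coh.IsQCoh G := hcoh.1
  obtain ⟨M₀, hM₀, htor, hfin⟩ := exists_model hcoh hkill hfree h₁ h₂
  haveI := hfin 1 (by omega)
  have hS : Subsingleton (LocCoh.H 𝔞 0 (S G)) := by
    rw [(LocCohLib.H0Equiv 𝔞 (S G)).toEquiv.subsingleton_congr, Submodule.subsingleton_iff_eq_bot, eq_bot_iff]
    intro x hx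
    obtain ⟨n, hn⟩ := hx
    refine (Submodule.mem_bot A).2 (eq_zero_of_gS G x fun y => ?_)
    obtain ⟨g, hg, hgy⟩ := Set.not_subset.1 (not_le_pr y)
    have h := congrArg (gS G y) (hn (g ^ n) (Ideal.pow_mem_pow hg n))
    rw [gS_smul, map_zero] at h
    exact (isUnit_stalkHom fun h' => hgy ((pr y).isPrime.mem_of_pow_mem n h')).smul_eq_zero.1 h
  have hinj : Function.Injective (Hδ (I := 𝔞) M₀.injective_subtype (LinearMap.exact_subtype_mkQ M₀)
      M₀.mkQ_surjective 0) := (injective_iff_map_eq_zero _).2 fun x hx => by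
    obtain ⟨w, rfl⟩ := ((exact_Hδ M₀.injective_subtype (LinearMap.exact_subtype_mkQ M₀) M₀.mkQ_surjective 0).2 x).1 hx
    rw [Subsingleton.elim w 0, map_zero]
  haveI : Module.Finite A (LocCoh.H 𝔞 0 (S G ⧸ M₀)) := Module.Finite.of_injective _ hinj
  obtain ⟨e⟩ := LocCohLib.H0Equiv_of_torsion 𝔞 (S G ⧸ M₀) htor
  haveI := Module.Finite.equiv e
  exact Module.Finite.of_submodule_quotient M₀

/-- The scalar action on cohomology of the punctured spectrum. -/
theorem finite_HH_one (hcoh : Coh.IsCoh G) (hkill : Formal.KilledBy J G)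
    (hfree : Formal2.IsFinLocFreeMod J 1 G)
    (h₁ : Module.Finite A (LocCoh.H 𝔞 1 (A ⧸ J)))
    (h₂ : Module.Finite A (LocCoh.H 𝔞 2 (A ⧸ J))) :
    Module.Finite A (Coh.HH (PU 𝔞) G 1) := by
  haveI : Coh.IsQCoh G := hcoh.1
  haveI : NoetherianSpace (PU 𝔞) := (LocCoh.puncturedOpen A 𝔞).ι.isOpenEmbedding.isInducing.noetherianSpace
  obtain ⟨M₀, hM₀, htor, hfin⟩ := exists_model hcoh hkill hfree h₁ h₂
  obtain ⟨fs, hfs⟩ := LocCohLib.exists_list_span 𝔞
  obtain ⟨e, he⟩ := KoszLcLib.exists_linearEquiv G (scal 𝔞) fs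
    (fun i => KoszLcLib.isAffineOpen_scal 𝔞 (hfs ▸ Ideal.subset_span (List.get_mem fs i)))
    (KoszLcLib.iSup_scal 𝔞 fs hfs) 0
  obtain ⟨l⟩ := KoszLcLib.nonempty_H_equiv fs 𝔞 hfs (S G) 2
  let e' : Coh.HH (PU 𝔞) G 1 ≃ₗ[A] CohIII.koszulHLim fs (ModuleCat.of A (S G)) 2 :=
    { e with map_smul' := fun a x => he a x }
  haveI := hfin 2 le_rfl
  haveI := LocCohLib.subsingleton_H_of_torsion (I := 𝔞) _ htor 2 (by omega)
  have hsur : Function.Surjective (Hf 𝔞 2 M₀.subtype) := fun y =>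
    ((exact_Hf M₀.injective_subtype (LinearMap.exact_subtype_mkQ M₀) M₀.mkQ_surjective 2) y).1 (Subsingleton.elim _ _)
  haveI := Module.Finite.of_surjective _ hsur
  exact Module.Finite.equiv (e'.trans l.symm).symm

end NFlatAlgzLib
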