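import Groth.Agent.LocCohLib.BaseChange
import Groth.Agent.DepthTensModLib.Basic
import Groth.Agent.QGorExtLib.Alg
import Groth.Agent.S5756
import Groth.Agent.S2930
import Groth.Prelude.Def_Formal2

/-!
# Finiteness of local cohomology of a quotient ring
-/

set_option autoImplicit false

universe u

noncomputable section

namespace NFlatAlgzLib

variable {B : Type u} [CommRing B] [IsNoetherianRing B] (J : Ideal B)

/-- The depth of a localization of the quotient, computed over the ring. -/
theorem depth_quot (P : Ideal (B ⧸ J)) [P.IsPrime] :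
    LocCoh.depth (Localization.AtPrime (P.comap (Ideal.Quotient.mk J)))
        (Localization.AtPrime (P.comap (Ideal.Quotient.mk J)) ⧸
          J.map (algebraMap B (Localization.AtPrime (P.comap (Ideal.Quotient.mk J))))) =
      LocCoh.depth (Localization.AtPrime P) (Localization.AtPrime P) := by
  let x := P.comap (Ideal.Quotient.mk J)
  let R := Localization.AtPrime x
  let S := Localization.AtPrime P
  let f : R →+* S := Localization.localRingHom x P (Ideal.Quotient.mk J) rfl
  letI : Algebra R S := f.toAlgebra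
  have hlh : IsLocalHom f := Localization.isLocalHom_localRingHom _ _ _ _
  haveI : IsLocalHom (algebraMap R S) := hlh
  have hto : ∀ b : B, f (algebraMap B R b) = algebraMap (B ⧸ J) S (Ideal.Quotient.mk J b) :=
    fun b => Localization.localRingHom_to_map _ _ _ _ b
  have hsurj : Function.Surjective f := fun z => by
    obtain ⟨⟨b, t⟩, h⟩ := IsLocalization.surj P.primeCompl z
    obtain ⟨b, rfl⟩ := Ideal.Quotient.mk_surjective b
    obtain ⟨t', ht'⟩ := Ideal.Quotient.mk_surjective (t : B ⧸ J)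
    have htx : t' ∈ x.primeCompl := fun hm => t.2 (ht' ▸ (Ideal.mem_comap.1 hm))
    refine ⟨IsLocalization.mk' R b ⟨t', htx⟩, ?_⟩
    have h1 := congrArg f (IsLocalization.mk'_spec R b (⟨t', htx⟩ : x.primeCompl))
    rw [map_mul, hto, hto, ht'] at h1
    exact (IsLocalization.map_units S t).mul_left_inj.1 (h1.trans h.symm)
  have hker : RingHom.ker f = J.map (algebraMap B R) := by
    refine le_antisymm (fun r hr => ?_) (Ideal.map_le_iff_le_comap.2 fun b hb => ?_)
    · obtain ⟨⟨b, t⟩, h⟩ := IsLocalization.surj x.primeCompl r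
      have h1 : algebraMap (B ⧸ J) S (Ideal.Quotient.mk J b) = 0 := by
        rw [← hto, ← h, map_mul, RingHom.mem_ker.1 hr, zero_mul]
      obtain ⟨u, hu⟩ := (IsLocalization.map_eq_zero_iff P.primeCompl S _).1 h1
      obtain ⟨u', hu'⟩ := Ideal.Quotient.mk_surjective (u : B ⧸ J)
      rw [← hu', ← map_mul, Ideal.Quotient.eq_zero_iff_mem] at hu
      rw [← Ideal.mul_unit_mem_iff_mem _ (IsLocalization.map_units R t), h]
      exact (IsLocalization.algebraMap_mem_map_algebraMap_iff x.primeCompl R _ _).2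
        ⟨u', fun hm => u.2 (hu' ▸ Ideal.mem_comap.1 hm), hu⟩
    · rw [Ideal.mem_comap, RingHom.mem_ker, hto, Ideal.Quotient.eq_zero_iff_mem.2 hb, map_zero]
  haveI : Module.Finite R S := Module.Finite.of_surjective (Algebra.linearMap R S) hsurj
  let e : (R ⧸ J.map (algebraMap B R)) ≃ₗ[R] S :=
    ((Ideal.quotientEquivAlgOfEq R hker.symm).trans
      (Ideal.quotientKerAlgEquivOfSurjective (f := Algebra.ofId R S) hsurj)).toLinearEquiv
  exact (DepthTensModLib.depth_congr R e).trans (Groth.Agent.S5756.result R S S)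

omit [IsNoetherianRing B] in
theorem dimBetween_eq_one {x y : PrimeSpectrum B} (h : x ⋖ y) :
    Formal2.dimBetween B x.asIdeal y.asIdeal = 1 := by
  let R := Localization.AtPrime y.asIdeal
  let I := x.asIdeal.map (algebraMap B R)
  have hd : Disjoint (y.asIdeal.primeCompl : Set B) (x.asIdeal : Set B) :=
    Set.disjoint_left.2 fun a ha hax => ha (h.le hax)
  haveI : I.IsPrime := IsLocalization.isPrime_of_isPrime_disjoint y.asIdeal.primeCompl R _ x.isPrime hd
  have hI : I.comap (algebraMap B R) = x.asIdeal :=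
    IsLocalization.comap_map_of_isPrime_disjoint y.asIdeal.primeCompl R x.isPrime hd
  have hcm : (IsLocalRing.maximalIdeal R).comap (algebraMap B R) = y.asIdeal :=
    IsLocalization.AtPrime.under_maximalIdeal R y.asIdeal
  have hne : I ≠ IsLocalRing.maximalIdeal R := fun e => by
    refine h.lt.ne (PrimeSpectrum.ext ?_)
    rw [← hI, e, hcm]
  have hz : ∀ p ∈ PrimeSpectrum.zeroLocus (R := R) I, p.asIdeal = I ∨ p.asIdeal = IsLocalRing.maximalIdeal R := by
    intro p hp
    let q : PrimeSpectrum B := PrimeSpectrum.comap (algebraMap B R) p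
    have h1 : x ≤ q := fun a ha => hp (Ideal.mem_map_of_mem _ ha)
    have h2 : q ≤ y := fun a ha => by
      rw [← hcm]
      exact IsLocalRing.le_maximalIdeal p.isPrime.ne_top ha
    have key : p.asIdeal = q.asIdeal.map (algebraMap B R) :=
      (IsLocalization.map_under y.asIdeal.primeCompl R p.asIdeal).symm
    rcases h.eq_or_eq h1 h2 with e | e
    · left
      rw [key, e]
    · right
      rw [key, e]
      exact Localization.AtPrime.map_eq_maximalIdeal
  show ringKrullDim (R ⧸ I) = 1
  rw [ringKrullDim_quotient]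
  let zI : PrimeSpectrum.zeroLocus (R := R) I := ⟨⟨I, inferInstance⟩, fun _ h => h⟩
  let zm : PrimeSpectrum.zeroLocus (R := R) I :=
    ⟨⟨_, (IsLocalRing.maximalIdeal.isMaximal R).isPrime⟩, IsLocalRing.le_maximalIdeal Ideal.IsPrime.ne_top'⟩
  refine le_antisymm ?_ ?_
  · refine Order.krullDim_le_one_iff.2 fun p => ?_
    rcases hz p.1 p.2 with e | e
    · left
      intro q hq
      show p.1.asIdeal ≤ q.1.asIdeal
      rw [e]
      exact q.2
    · right
      intro q hq
      show q.1.asIdeal ≤ p.1.asIdeal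
      rw [e]
      exact IsLocalRing.le_maximalIdeal q.1.isPrime.ne_top
  · refine (Order.one_le_krullDim_iff).2 ⟨zI, zm, lt_of_le_of_ne (IsLocalRing.le_maximalIdeal ?_) fun e => ?_⟩
    · exact Ideal.IsPrime.ne_top'
    · exact hne (congrArg (fun z => z.1.asIdeal) e)

/-- Local cohomology of `B ⧸ J` is finite in degrees one and two. -/
theorem finite_H_quot {S : Type u} [CommRing S] [IsRegularRing S] (π : S →+* B ⧸ J)
    (hπ : Function.Surjective π) (I : Ideal B)
    (hdepth : ∀ x : PrimeSpectrum B, ¬ I ≤ x.asIdeal → J ≤ x.asIdeal →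
      (∃ y : PrimeSpectrum B, I ≤ y.asIdeal ∧ J ≤ y.asIdeal ∧ x.asIdeal ≤ y.asIdeal ∧
        Formal2.dimBetween B x.asIdeal y.asIdeal = 1) →
      (2 : ℕ∞) ≤ LocCoh.depth (Localization.AtPrime x.asIdeal)
        (Localization.AtPrime x.asIdeal ⧸ J.map (algebraMap B (Localization.AtPrime x.asIdeal))))
    (i : ℕ) (hi : i ≤ 2) : Module.Finite B (LocCoh.H I i (B ⧸ J)) := by
  have key : ∀ p q : PrimeSpectrum (B ⧸ J), ¬ I.map (algebraMap B (B ⧸ J)) ≤ p.asIdeal →
      I.map (algebraMap B (B ⧸ J)) ≤ q.asIdeal → p ⋖ q →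
      (2 : ℕ∞) ≤ LocCoh.depth (Localization.AtPrime p.asIdeal) (LocalizedModule p.asIdeal.primeCompl (B ⧸ J)) := by
    intro p q hp hq hpq
    let c := PrimeSpectrum.comap (Ideal.Quotient.mk J)
    have hJ : ∀ r : PrimeSpectrum (B ⧸ J), J ≤ (c r).asIdeal := fun r a ha => by
      show Ideal.Quotient.mk J a ∈ r.asIdeal
      rw [Ideal.Quotient.eq_zero_iff_mem.2 ha]
      exact zero_mem _
    have hle : ∀ r r' : PrimeSpectrum (B ⧸ J), c r ≤ c r' → r ≤ r' := fun r r' h a ha => by
      obtain ⟨a, rfl⟩ := Ideal.Quotient.mk_surjective a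
      exact h ha
    have hcov : c p ⋖ c q := by
      refine ⟨lt_of_le_of_ne (fun a ha => hpq.le ha) fun e => hpq.lt.ne (le_antisymm (hle _ _ e.le) (hle _ _ e.ge)),
        fun r hr hr' => ?_⟩
      have hJr : J ≤ r.asIdeal := (hJ p).trans hr.le
      obtain ⟨r', rfl⟩ : ∃ r', c r' = r := by
        refine ⟨⟨r.asIdeal.map (Ideal.Quotient.mk J), Ideal.map_isPrime_of_surjective Ideal.Quotient.mk_surjective
          (by rwa [Ideal.mk_ker])⟩, PrimeSpectrum.ext ?_⟩
        show (r.asIdeal.map (Ideal.Quotient.mk J)).comap (Ideal.Quotient.mk J) = r.asIdeal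
        rw [Ideal.comap_map_of_surjective _ Ideal.Quotient.mk_surjective, ← RingHom.ker_eq_comap_bot, Ideal.mk_ker,
          sup_of_le_left hJr]
      exact hpq.2 (lt_of_le_not_ge (hle _ _ hr.le) fun h => hr.not_ge fun a ha => h ha)
        (lt_of_le_not_ge (hle _ _ hr'.le) fun h => hr'.not_ge fun a ha => h ha)
    rw [QGorExtLib.depth_self_congr, ← depth_quot J p.asIdeal]
    exact hdepth (c p) (fun h => hp (Ideal.map_le_iff_le_comap.2 h)) (hJ p)
      ⟨c q, Ideal.map_le_iff_le_comap.1 hq, hJ q, hcov.le, dimBetween_eq_one hcov⟩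
  haveI := ((Groth.Agent.S2930.result S (B ⧸ J) π hπ (I.map (algebraMap B (B ⧸ J))) (B ⧸ J) 2).2 key) i hi
  haveI : Module.Finite B (B ⧸ J) := inferInstance
  let e := LocCohLib.resLcEquiv I (R' := B ⧸ J) (B ⧸ J) i
  obtain ⟨s, hs⟩ := Module.Finite.fg_top (R := B ⧸ J) (M := LocCoh.H (I.map (algebraMap B (B ⧸ J))) i (B ⧸ J))
  refine Module.Finite.of_surjective
    (Fintype.linearCombination B fun a : s => e (show _ from a.1)) fun z => ?_
  obtain ⟨w, rfl⟩ := e.surjective z
  have hw : (show LocCoh.H (I.map (algebraMap B (B ⧸ J))) i (B ⧸ J) from w) ∈ Submodule.span (B ⧸ J) (s : Set _) :=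
    hs ▸ trivial
  obtain ⟨c, hc⟩ := Submodule.mem_span_finset'.1 hw
  choose b hb using fun a => Ideal.Quotient.mk_surjective (c a)
  refine ⟨b, ?_⟩
  rw [Fintype.linearCombination_apply]
  simp only [← map_smul, ← map_sum]
  refine congrArg e (Eq.trans (Finset.sum_congr rfl fun a _ => ?_) hc)
  rw [← hb a]
  rfl

end NFlatAlgzLib

end
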