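import Groth.Agent.NFlatAlgzLib.Split
import Groth.Agent.NFlatAlgzLib.Finite
import Groth.Agent.NFlatAlgzLib.Quot
import Groth.Agent.AlgzCohLib.Main
import Groth.Agent.AlgzCohLib.Complete
import Groth.Agent.Formal2AlgzLib.Main

/-!
# Algebraization of formal bundles along a normally flat ideal
-/

set_option autoImplicit false

universe u

open CategoryTheory CategoryTheory.Limits AlgebraicGeometry TopologicalSpace Opposite
open Formal2AlgzLib (PU S)

noncomputable section

namespace NFlatAlgzLib

variable {B : Type u} [CommRing B] [IsNoetherianRing B] {J I : Ideal B}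

theorem finite_HH_zero {G : (PU I).Modules} (hfin : Module.Finite B (S G)) :
    Module.Finite B (Coh.HH (PU I) G 0) := by
  let e : S G ≃ₗ[B] ↥((moduleSpecΓFunctor (R := CommRingCat.of B)).obj
      ((Scheme.Modules.pushforward (LocCoh.puncturedOpen B I).ι).obj G)) :=
    { toFun := fun x => (show Formal2AlgzLib.ΓP G from x)
      invFun := fun x => (show S G from x)
      map_add' := fun _ _ => rfl
      map_smul' := fun a x => (Formal2AlgzLib.smul_ΓP G a x).symm
      left_inv := fun _ => rfl
      right_inv := fun _ => rfl }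
  exact Module.Finite.equiv (e.trans (CanExtLib.sigL G))

/-- **Algebraization along a normally flat ideal.** -/
theorem exists_completion_iso [IsAdicComplete J B] (hnf : EGA4.IsNormallyFlat J B)
    (hH : ∀ i ≤ 2, Module.Finite B (LocCoh.H I i (B ⧸ J)))
    (V : (Spec (CommRingCat.of B)).Opens) (hV : V = LocCoh.puncturedOpen B I)
    (G : ℕᵒᵖ ⥤ (V : Scheme.{u}).Modules) (hG : Formal.IsCohFormal J G)
    (hfree : ∀ n : ℕ, Formal2.IsFinLocFreeMod J (n + 1) (G.obj (op n))) :
    ∃ F : (V : Scheme.{u}).Modules, Coh.IsCoh F ∧ Nonempty (Formal.completion J F ≅ G) := by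
  subst hV
  have hk : Formal.KilledBy J (G.obj (op 0)) := fun a ha => hG.2.1 0 a (by rwa [zero_add, pow_one])
  have h₁ := hH 1 (by omega)
  have h₂ := hH 2 le_rfl
  have hext := CanExtLib.canonicallyExtends_of_split hG
    (finite_HH_zero (finite_sections (hG.1 0) hk (hfree 0) h₁ h₂))
    (finite_HH_one (hG.1 0) hk (hfree 0) h₁ h₂) (exists_split hG hfree hnf)
  exact AlgzCohLib.exists_coh_completion_iso (AlgzCohLib.extends_of_canonicallyExtends hG hext)

end NFlatAlgzLib

end
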