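import Mathlib
import Groth.Prelude.Def_EGA4b

/-!
# Idempotent matrices from normal flatness
-/

set_option autoImplicit false

universe u

noncomputable section

namespace NFlatAlgzLib

variable {B : Type u} [CommRing B] {J : Ideal B}

theorem mk_eq_zero_iff {n : ℕ} (q : ↥(J ^ n • (⊤ : Submodule B B))) :
    (Submodule.Quotient.mk q : ↥(J ^ n • (⊤ : Submodule B B)) ⧸
      (J • (⊤ : Submodule B ↥(J ^ n • (⊤ : Submodule B B))))) = 0 ↔ (q : B) ∈ J ^ (n + 1) := by
  rw [Submodule.Quotient.mk_eq_zero]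
  have key : (J • (⊤ : Submodule B ↥(J ^ n • (⊤ : Submodule B B)))).map
      (J ^ n • (⊤ : Submodule B B)).subtype = (J ^ (n + 1) : Ideal B) := by
    rw [Submodule.map_smul'', Submodule.map_top, Submodule.range_subtype, pow_succ' J n]
    simp [Ideal.mul_top]
  constructor
  · intro h
    exact key.le ⟨q, h, rfl⟩
  · intro h
    obtain ⟨q', h', e⟩ := key.ge h
    exact (Subtype.ext e : q' = q) ▸ h'

/-- **Normal flatness gives an idempotent matrix for each power of the ideal.** -/
theorem exists_matrix [IsNoetherianRing B] (hnf : EGA4.IsNormallyFlat J B) (n : ℕ) {s : ℕ} (b : Fin s → B)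
    (hb : Ideal.span (Set.range b) = J ^ n) :
    ∃ e : Fin s → Fin s → B, (∀ i, b i - ∑ j, e i j * b j ∈ J ^ (n + 1)) ∧
      ∀ l : Fin s → B, ∑ i, l i * b i ∈ J ^ (n + 1) → ∀ j, ∑ i, l i * e i j ∈ J := by
  classical
  let Q := ↥(J ^ n • (⊤ : Submodule B B)) ⧸ (J • (⊤ : Submodule B ↥(J ^ n • (⊤ : Submodule B B))))
  have hmem : ∀ x : B, x ∈ J ^ n ↔ x ∈ (J ^ n • ⊤ : Submodule B B) := fun x => by simp [Ideal.mul_top]
  let g : Fin s → Q := fun i => Submodule.Quotient.mk
    ⟨b i, (hmem _).1 (hb.le (Ideal.subset_span ⟨i, rfl⟩))⟩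
  let f : (Fin s → B ⧸ J) →ₗ[B ⧸ J] Q := Fintype.linearCombination (B ⧸ J) g
  have hmk : ∀ (c : Fin s → B) (hc : ∑ i, c i * b i ∈ (J ^ n • ⊤ : Submodule B B)),
      f (fun i => Ideal.Quotient.mk J (c i)) = Submodule.Quotient.mk ⟨∑ i, c i * b i, hc⟩ := by
    intro c hc
    rw [Fintype.linearCombination_apply]
    have : (⟨∑ i, c i * b i, hc⟩ : ↥(J ^ n • (⊤ : Submodule B B))) =
        ∑ i, c i • (⟨b i, (hmem _).1 (hb.le (Ideal.subset_span ⟨i, rfl⟩))⟩ : ↥(J ^ n • (⊤ : Submodule B B))) := by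
      ext; simp
    rw [this, ← Submodule.mkQ_apply, map_sum]
    exact Finset.sum_congr rfl fun i _ => rfl
  have hsum : ∀ c : Fin s → B, ∑ i, c i * b i ∈ (J ^ n • ⊤ : Submodule B B) := fun c =>
    (hmem _).1 (Ideal.sum_mem _ fun i _ => Ideal.mul_mem_left _ _ (hb.le (Ideal.subset_span ⟨i, rfl⟩)))
  have hf : Function.Surjective f := by
    intro q
    obtain ⟨⟨x, hx⟩, rfl⟩ := Submodule.Quotient.mk_surjective _ q
    obtain ⟨c, hc⟩ := Ideal.mem_span_range_iff_exists_fun.mp (hb.ge ((hmem x).2 hx))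
    refine ⟨fun i => Ideal.Quotient.mk J (c i), ?_⟩
    rw [hmk c (hsum c)]
    exact congrArg _ (Subtype.ext hc)
  haveI : Module.Flat (B ⧸ J) Q := hnf n
  haveI : Module.Finite (B ⧸ J) Q := Module.Finite.of_surjective f hf
  haveI : Module.FinitePresentation (B ⧸ J) Q := Module.finitePresentation_of_finite _ _
  haveI : Module.Projective (B ⧸ J) Q := Module.Flat.projective_of_finitePresentation
  obtain ⟨σ, hσ⟩ := Module.projective_lifting_property f LinearMap.id hf
  choose e he using fun i j => Ideal.Quotient.mk_surjective (σ (g i) j)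
  refine ⟨e, fun i => ?_, fun l hl j => ?_⟩
  · have h : f (fun j => Ideal.Quotient.mk J (e i j)) = g i := by
      rw [show (fun j => Ideal.Quotient.mk J (e i j)) = σ (g i) from funext (he i)]
      exact LinearMap.congr_fun hσ (g i)
    rw [hmk (e i) (hsum _), Submodule.Quotient.eq] at h
    have := (mk_eq_zero_iff _).1 ((Submodule.Quotient.mk_eq_zero _).2 h)
    rw [show b i - ∑ j, e i j * b j = -(∑ j, e i j * b j - b i) by ring]
    exact (Ideal.neg_mem_iff _).2 this
  · have h : f (fun i => Ideal.Quotient.mk J (l i)) = 0 := by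
      rw [hmk l (hsum l)]
      exact (mk_eq_zero_iff _).2 hl
    have h2 := congrFun (congrArg σ h) j
    rw [map_zero, Pi.zero_apply, Fintype.linearCombination_apply, map_sum] at h2
    simp only [map_smul, Finset.sum_apply, Pi.smul_apply, smul_eq_mul, ← he] at h2
    rw [← Ideal.Quotient.eq_zero_iff_mem, map_sum]
    simpa only [map_mul] using h2

end NFlatAlgzLib

end
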