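import Groth.Agent.CanExtLib.Main
import Groth.Agent.CanExtLib.Pt
import Groth.Agent.Formal2AlgzLib.Stalk
import Groth.Agent.Formal2AlgzLib.Frame
import Groth.Agent.Formal2AlgzLib.Level
import Groth.Agent.NFlatAlgzLib.Mat

/-!
# The graded pieces of a formal bundle along a normally flat ideal
-/

set_option autoImplicit false

universe u

open CategoryTheory CategoryTheory.Limits AlgebraicGeometry TopologicalSpace Opposite
open GrSysLib (trMap)
open Algz (toStalk stalkIdeal stalkMapₗ)

noncomputable section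

namespace NFlatAlgzLib

variable {B : Type u} [CommRing B] [IsNoetherianRing B] {U : (Spec (CommRingCat.of B)).Opens} {J : Ideal B}

omit [IsNoetherianRing B] in
theorem isLocalization_toStalk (y : (U : Scheme.{u})) :
    letI := (toStalk B (U : Scheme.{u}) y).toAlgebra
    IsLocalization.AtPrime ((U : Scheme.{u}).presheaf.stalk y) (U.ι y : PrimeSpectrum B).asIdeal :=
  Formal2AlgzLib.isLocalization_of_isOpenImmersion U.ι y (toStalk B (U : Scheme.{u}) y) fun _ => rfl

omit [IsNoetherianRing B] in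
/-- The independence property at a stalk. -/
theorem sum_mem_stalkIdeal (y : (U : Scheme.{u})) {s n : ℕ} (b : Fin s → B) (e : Fin s → Fin s → B)
    (h : ∀ l : Fin s → B, ∑ i, l i * b i ∈ J ^ (n + 1) → ∀ j, ∑ i, l i * e i j ∈ J)
    (c : Fin s → (U : Scheme.{u}).presheaf.stalk y)
    (hc : ∑ i, toStalk B (U : Scheme.{u}) y (b i) * c i ∈ stalkIdeal J y ^ (n + 1)) (j : Fin s) :
    ∑ i, toStalk B (U : Scheme.{u}) y (e i j) * c i ∈ stalkIdeal J y := by
  letI := (toStalk B (U : Scheme.{u}) y).toAlgebra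
  haveI := isLocalization_toStalk y
  let S : Submonoid B := (U.ι y : PrimeSpectrum B).asIdeal.primeCompl
  haveI : IsLocalization S ((U : Scheme.{u}).presheaf.stalk y) := isLocalization_toStalk y
  obtain ⟨d, hd⟩ := IsLocalization.exist_integer_multiples_of_finite S c
  choose l hl using hd
  have hl' : ∀ i, toStalk B (U : Scheme.{u}) y (l i) = toStalk B (U : Scheme.{u}) y d * c i := fun i =>
    (hl i).trans (Algebra.smul_def (d : B) (c i))
  have hu : IsUnit (toStalk B (U : Scheme.{u}) y d) :=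
    IsLocalization.map_units ((U : Scheme.{u}).presheaf.stalk y) d
  have h1 : toStalk B (U : Scheme.{u}) y (∑ i, l i * b i) ∈ (J ^ (n + 1)).map (toStalk B (U : Scheme.{u}) y) := by
    rw [← CanExtLib.stalkIdeal_pow]
    have : toStalk B (U : Scheme.{u}) y (∑ i, l i * b i) =
        toStalk B (U : Scheme.{u}) y d * ∑ i, toStalk B (U : Scheme.{u}) y (b i) * c i := by
      rw [map_sum, Finset.mul_sum]
      refine Finset.sum_congr rfl fun i _ => ?_
      rw [map_mul, hl' i]
      ring
    rw [this]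
    exact Ideal.mul_mem_left _ _ hc
  obtain ⟨t, ht, htm⟩ := (IsLocalization.algebraMap_mem_map_algebraMap_iff S
    ((U : Scheme.{u}).presheaf.stalk y) _ _).1 h1
  have h2 := h (fun i => t * l i) (by simpa [Finset.mul_sum, mul_assoc] using htm) j
  have hut : IsUnit (toStalk B (U : Scheme.{u}) y t) :=
    IsLocalization.map_units ((U : Scheme.{u}).presheaf.stalk y) (⟨t, ht⟩ : S)
  have h3 := Ideal.mem_map_of_mem (toStalk B (U : Scheme.{u}) y) h2
  rw [← Ideal.unit_mul_mem_iff_mem _ (hut.mul hu)]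
  refine (congrArg (· ∈ stalkIdeal J y) ?_).mpr h3
  rw [map_sum, Finset.mul_sum]
  refine Finset.sum_congr rfl fun i _ => ?_
  rw [map_mul, map_mul, hl' i]
  ring

variable {G : ℕᵒᵖ ⥤ (U : Scheme.{u}).Modules}

/-- **Splitting of the graded pieces.** -/
theorem exists_split (hG : Formal.IsCohFormal J G)
    (hfree : ∀ n : ℕ, Formal2.IsFinLocFreeMod J (n + 1) (G.obj (op n))) (hnf : EGA4.IsNormallyFlat J B) (n : ℕ) :
    ∃ (s : ℕ) (b : Fin s → B) (hb : ∀ i, b i ∈ J ^ (n + 1))
      (p : Fin s → (kernel (trMap G n) ⟶ G.obj (op 0))),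
      ∑ i, p i ≫ CanExtLib.mu hG n (b i) (hb i) = 𝟙 _ := by
  classical
  haveI := CanExtLib.isNoetherian_opens U
  obtain ⟨s, b, hspan⟩ := Submodule.fg_iff_exists_fin_generating_family.mp
    (IsNoetherian.noetherian (J ^ (n + 1) : Ideal B))
  have hsp : Ideal.span (Set.range b) = J ^ (n + 1) := hspan
  have hb : ∀ i, b i ∈ J ^ (n + 1) := fun i => hsp.le (Ideal.subset_span ⟨i, rfl⟩)
  obtain ⟨e, he1, he2⟩ := exists_matrix hnf (n + 1) b hsp
  refine ⟨s, b, hb, ?_⟩
  let φ : (⨁ fun _ : Fin s => G.obj (op 0)) ⟶ kernel (trMap G n) :=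
    biproduct.desc fun i => CanExtLib.mu hG n (b i) (hb i)
  let ψ : (⨁ fun _ : Fin s => G.obj (op 0)) ⟶ (⨁ fun _ : Fin s => G.obj (op 0)) :=
    biproduct.matrix fun i j => Formal.smulMod B (G.obj (op 0)) (e i j)
  have hψφ : ψ ≫ φ = φ := by
    refine biproduct.hom_ext' _ _ fun i => ?_
    rw [show φ = biproduct.desc fun i => CanExtLib.mu hG n (b i) (hb i) from rfl, biproduct.matrix_desc]
    simp only [biproduct.ι_desc]
    refine CanExtLib.mu_ext n ?_ hG
    rw [Preadditive.sum_comp, Preadditive.comp_sum, CanExtLib.tr_mu]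
    refine Eq.trans (Finset.sum_congr rfl fun j _ => ?_) (Eq.trans (CanExtLib.smulMod_sum (G.obj (op (n + 1)))
      Finset.univ fun j => e i j * b j).symm ?_)
    · rw [Category.assoc, ← reassoc_of% FormalProLib.smulMod_natural (ARSys.tr G (Nat.zero_le (n + 1))) (e i j),
        CanExtLib.tr_mu, ← FormalLib.smulMod_mul, mul_comm]
    · have h0 : Formal.smulMod B (G.obj (op (n + 1))) (b i - ∑ j, e i j * b j) = 0 :=
        hG.2.1 (n + 1) _ (he1 i)
      have := FormalLib.smulMod_add (G.obj (op (n + 1))) (b i - ∑ j, e i j * b j) (∑ j, e i j * b j)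
      rw [sub_add_cancel, h0, zero_add] at this
      exact this.symm
  have hιinj : ∀ y, Function.Injective (stalkMapₗ (kernel.ι (trMap G n)) y) := fun y =>
    (ModuleCat.mono_iff_injective _).1
      (inferInstance : Mono ((DerSch.stalkFunctor (U : Scheme.{u}) y).map (kernel.ι (trMap G n))))
  have htr : ∀ y, Function.Surjective (stalkMapₗ (ARSys.tr G (Nat.zero_le (n + 1))) y) := fun y => by
    haveI := (AlgzCohLib.tr_isModQuot hG (Nat.zero_le (n + 1))).epi
    exact (ModuleCat.epi_iff_surjective _).1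
      (inferInstance : Epi ((DerSch.stalkFunctor (U : Scheme.{u}) y).map (ARSys.tr G (Nat.zero_le (n + 1)))))
  -- the value on a summand
  have hφι : ∀ (y : (U : Scheme.{u})) (i : Fin s) (a : (G.obj (op (n + 1))).presheaf.stalk y),
      stalkMapₗ (kernel.ι (trMap G n)) y (stalkMapₗ φ y (stalkMapₗ (biproduct.ι (fun _ : Fin s => G.obj (op 0)) i) y
        (stalkMapₗ (ARSys.tr G (Nat.zero_le (n + 1))) y a))) = toStalk B (U : Scheme.{u}) y (b i) • a := by
    intro y i a
    refine Eq.trans ?_ (CanExtLib.stalkMapₗ_smulMod (G.obj (op (n + 1))) y (b i) a)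
    simp only [← CanExtLib.stalkMapₗ_comp]
    refine congrArg (fun f => stalkMapₗ f y a) ?_
    simp only [φ, Category.assoc, biproduct.ι_desc_assoc, CanExtLib.tr_mu]
  -- decomposition
  have hdec : ∀ (y : (U : Scheme.{u})) (z : (⨁ fun _ : Fin s => G.obj (op 0)).presheaf.stalk y),
      ∃ a : Fin s → (G.obj (op (n + 1))).presheaf.stalk y, z = ∑ i,
        stalkMapₗ (biproduct.ι (fun _ : Fin s => G.obj (op 0)) i) y
          (stalkMapₗ (ARSys.tr G (Nat.zero_le (n + 1))) y (a i)) := by
    intro y z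
    choose a ha using fun i => htr y (stalkMapₗ (biproduct.π (fun _ : Fin s => G.obj (op 0)) i) y z)
    refine ⟨a, (CanExtLib.stalkMapₗ_id _ y z).symm.trans ?_⟩
    have h := congrArg (fun f => (DerSch.stalkFunctor (U : Scheme.{u}) y).map f)
      (biproduct.total (f := fun _ : Fin s => G.obj (op 0))).symm
    simp only [Functor.map_sum] at h
    refine (LinearMap.congr_fun (congrArg ModuleCat.Hom.hom h) z).trans ?_
    rw [ModuleCat.hom_sum, LinearMap.sum_apply]
    exact Finset.sum_congr rfl fun i _ => (CanExtLib.stalkMapₗ_comp _ _ y z).trans (congrArg _ (ha i).symm)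
  haveI : Epi φ := by
    refine Preadditive.epi_of_cancel_zero _ fun {K} g hg => Formal2VBLib.hom_ext_stalk fun y w => ?_
    rw [Functor.map_zero]
    show stalkMapₗ g y w = 0
    suffices ∃ z, stalkMapₗ φ y z = w by
      obtain ⟨z, rfl⟩ := this
      refine (CanExtLib.stalkMapₗ_comp φ g y z).symm.trans ?_
      rw [hg, CanExtLib.stalkMapₗ_zero]
    have hw : stalkMapₗ (kernel.ι (trMap G n)) y w ∈
        (stalkIdeal J y ^ (n + 1) • ⊤ : Submodule ((U : Scheme.{u}).presheaf.stalk y)
          ((G.obj (op (n + 1))).presheaf.stalk y)) := by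
      refine (CanExtLib.ker_stalk_trMap hG n y).le ?_
      rw [LinearMap.mem_ker, ← CanExtLib.stalkMapₗ_comp, kernel.condition, CanExtLib.stalkMapₗ_zero]
    rw [CanExtLib.stalkIdeal_pow, ← hsp, Ideal.map_span, ← Set.range_comp] at hw
    obtain ⟨v, -, hv⟩ := AlgzCohLib.exists_sum_eq _ _ hw
    refine ⟨∑ i, stalkMapₗ (biproduct.ι (fun _ : Fin s => G.obj (op 0)) i) y
          (stalkMapₗ (ARSys.tr G (Nat.zero_le (n + 1))) y (v i)), hιinj y ?_⟩
    show stalkMapₗ (kernel.ι (trMap G n)) y (stalkMapₗ φ y _) = _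
    rw [map_sum, map_sum, hv]
    exact Finset.sum_congr rfl fun i _ => hφι y i (v i)
  have hker : kernel.ι φ ≫ ψ = 0 := by
    refine Formal2VBLib.hom_ext_stalk fun y x => ?_
    rw [Functor.map_zero]
    show stalkMapₗ (kernel.ι φ ≫ ψ) y x = 0
    obtain ⟨a, ha⟩ := hdec y (stalkMapₗ (kernel.ι φ) y x)
    rw [CanExtLib.stalkMapₗ_comp, ha]
    have hrel : ∑ i, toStalk B (U : Scheme.{u}) y (b i) • a i = 0 := by
      refine (Finset.sum_congr rfl fun i _ => (hφι y i (a i)).symm).trans ?_
      rw [← map_sum, ← map_sum, ← ha, ← CanExtLib.stalkMapₗ_comp (kernel.ι φ) φ, kernel.condition, CanExtLib.stalkMapₗ_zero,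
        map_zero]
    -- coordinates
    obtain ⟨V, r, ε, hy, hε⟩ := Formal2AlgzLib.exists_presentation (hfree (n + 1)) y
    obtain ⟨hsurj, hk⟩ := hε y hy
    choose c hc using fun i => hsurj (a i)
    have hcl : ∀ l, ∑ i, toStalk B (U : Scheme.{u}) y (b i) * c i l ∈ stalkIdeal J y ^ (n + 1 + 1) := by
      have h0 : Fintype.linearCombination _ (fun l => ProjFormLib.ger (G.obj (op (n + 1))) y hy (ε l))
          (∑ i, toStalk B (U : Scheme.{u}) y (b i) • c i) = 0 := by
        rw [map_sum]; simp only [map_smul, hc]; exact hrel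
      intro l
      have := (hk _).1 h0 l
      rw [CanExtLib.stalkIdeal_pow]
      simp only [Finset.sum_apply, Pi.smul_apply, smul_eq_mul] at this
      exact this
    have hmem : ∀ j, ∑ i, toStalk B (U : Scheme.{u}) y (e i j) • a i ∈
        (stalkIdeal J y ^ 1 • ⊤ : Submodule ((U : Scheme.{u}).presheaf.stalk y)
          ((G.obj (op (n + 1))).presheaf.stalk y)) := by
      intro j
      rw [show ∑ i, toStalk B (U : Scheme.{u}) y (e i j) • a i =
          Fintype.linearCombination _ (fun l => ProjFormLib.ger (G.obj (op (n + 1))) y hy (ε l))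
            (∑ i, toStalk B (U : Scheme.{u}) y (e i j) • c i) by
        rw [map_sum]; exact Finset.sum_congr rfl fun i _ => by rw [map_smul, hc]; rfl,
        Fintype.linearCombination_apply]
      refine Submodule.sum_mem _ fun l _ => Submodule.smul_mem_smul ?_ trivial
      rw [pow_one]
      simpa [Finset.sum_apply] using sum_mem_stalkIdeal y b e he2 (fun i => c i l) (hcl l) j
    have hsk : ∀ j, stalkMapₗ (ARSys.tr G (Nat.zero_le (n + 1))) y
        (∑ i, toStalk B (U : Scheme.{u}) y (e i j) • a i) = 0 := fun j =>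
      CanExtLib.smul_le_ker (I := J) (n := 1) _ y
        (fun q hq => by
          rw [FormalProLib.smulMod_natural, hG.2.1 0 q hq, comp_zero]) (hmem j)
    -- components
    have hproj : ∀ j, stalkMapₗ (biproduct.π (fun _ : Fin s => G.obj (op 0)) j) y (stalkMapₗ ψ y
        (∑ i, stalkMapₗ (biproduct.ι (fun _ : Fin s => G.obj (op 0)) i) y
          (stalkMapₗ (ARSys.tr G (Nat.zero_le (n + 1))) y (a i)))) = 0 := by
      intro j
      rw [map_sum, map_sum, ← hsk j, map_sum]
      refine Finset.sum_congr rfl fun i _ => ?_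
      rw [map_smul, ← CanExtLib.stalkMapₗ_smulMod, ← CanExtLib.stalkMapₗ_comp, ← CanExtLib.stalkMapₗ_comp]
      refine congrArg (fun f => stalkMapₗ f y _) ?_
      simp [ψ, biproduct.matrix_π]
    generalize stalkMapₗ ψ y _ = z at hproj ⊢
    have h := congrArg (fun f => (DerSch.stalkFunctor (U : Scheme.{u}) y).map f)
      (biproduct.total (f := fun _ : Fin s => G.obj (op 0))).symm
    simp only [Functor.map_sum] at h
    refine (CanExtLib.stalkMapₗ_id _ y z).symm.trans ((LinearMap.congr_fun (congrArg ModuleCat.Hom.hom h) z).trans ?_)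
    rw [ModuleCat.hom_sum, LinearMap.sum_apply]
    exact Finset.sum_eq_zero fun i _ => (CanExtLib.stalkMapₗ_comp _ _ y z).trans
      ((congrArg _ (hproj i)).trans (map_zero _))
  let p : kernel (trMap G n) ⟶ (⨁ fun _ : Fin s => G.obj (op 0)) := Abelian.epiDesc φ ψ hker
  have hp : p ≫ φ = 𝟙 _ := by
    rw [← cancel_epi φ, ← Category.assoc, show φ ≫ p = ψ from Abelian.comp_epiDesc φ ψ hker, hψφ, Category.comp_id]
  refine ⟨fun i => p ≫ biproduct.π _ i, ?_⟩
  simp only [Category.assoc, ← Preadditive.comp_sum]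
  rw [← biproduct.desc_eq]
  exact hp

end NFlatAlgzLib

end
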